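import Groth.Prelude.Def_W4c1hurwitzcptBd
import Mathlib.RingTheory.PowerSeries.Order
import Mathlib.RingTheory.PowerSeries.Expand

/-! Valuation parity in root disks. -/

set_option autoImplicit false

universe u

open PowerSeries

namespace Groth.Agent.Crimp5

open W4c1hurwitzcpt

variable {p : ℕ} [NeZero p] {k : Type u} [Field k]

theorem order_val_algebraMap (a : PowerSeries k) :
    (RootDisk.val (algebraMap (PowerSeries k) (RootDisk p k) a)).order = p • a.order :=
  PowerSeries.order_expand p (NeZero.ne p) a

/-- No combination of `1` and `h` has the order of `h ^ 2`. -/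
theorem ne_sq {h : RootDisk p k} {m : ℕ} (hh : (RootDisk.val h).order = m) (hm : ¬ p ∣ m)
    (a b : PowerSeries k) (h2 : ¬ p ∣ 2 * m ∨ a = 0) {n : ℕ} (hn : 2 * m < n) (w : PowerSeries k) :
    RootDisk.val (algebraMap (PowerSeries k) (RootDisk p k) a) +
        RootDisk.val (algebraMap (PowerSeries k) (RootDisk p k) b) * RootDisk.val h + X ^ n * w ≠
      RootDisk.val h ^ 2 := by
  intro e
  set A := RootDisk.val (algebraMap (PowerSeries k) (RootDisk p k) a) with hA
  set B := RootDisk.val (algebraMap (PowerSeries k) (RootDisk p k) b) * RootDisk.val h with hB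
  have hAo : A.order = p • a.order := order_val_algebraMap a
  have hBo : B.order = p • b.order + m := by rw [hB, order_mul, order_val_algebraMap, hh]
  have hH : (RootDisk.val h ^ 2).order = (2 * m : ℕ) := by
    rw [pow_two, order_mul, hh, ← Nat.cast_add, two_mul]
  have hW : ((2 * m : ℕ) : ℕ∞) < (X ^ n * w).order := by
    refine lt_of_lt_of_le (Nat.cast_lt.2 hn) ?_
    rw [order_mul, order_X_pow]
    exact le_self_add
  have hAB : (A + B).order = (2 * m : ℕ) := by
    have e' : A + B = RootDisk.val h ^ 2 + -(X ^ n * w) := by rw [← e]; ring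
    rw [e', order_add_of_order_ne _ _ (by rw [order_neg, hH]; exact hW.ne), order_neg, hH,
      inf_eq_left.2 hW.le]
  by_cases hne : A.order = B.order
  · rw [hAo, hBo] at hne
    rcases eq_or_ne a.order ⊤ with ha | ha
    · have ha0 : A = 0 := by rw [← order_eq_top, hAo, ha]; simp [NeZero.ne p]
      rw [ha0, zero_add, hBo, ← hne, ha, nsmul_eq_mul, ENat.mul_top (by simpa using NeZero.ne p)] at hAB
      exact ENat.top_ne_natCast _ hAB
    · obtain ⟨i, hi⟩ := ENat.ne_top_iff_exists.1 ha
      rcases eq_or_ne b.order ⊤ with hb | hb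
      · simp [← hi, hb, NeZero.ne p, nsmul_eq_mul] at hne
        norm_cast at hne
      · obtain ⟨j, hj⟩ := ENat.ne_top_iff_exists.1 hb
        rw [← hi, ← hj] at hne
        simp only [nsmul_eq_mul] at hne
        norm_cast at hne
        exact hm ((Nat.dvd_add_right (dvd_mul_right p j)).1 (hne ▸ dvd_mul_right p i))
  · rw [order_add_of_order_ne _ _ hne] at hAB
    rcases min_choice A.order B.order with h1 | h1
    · change min A.order B.order = _ at hAB
      rw [h1, hAo] at hAB
      rcases eq_or_ne a.order ⊤ with ha | ha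
      · rw [ha] at hAB
        simp [NeZero.ne p] at hAB
        exact WithTop.top_ne_natCast (2 * m) (by exact_mod_cast hAB)
      · obtain ⟨i, hi⟩ := ENat.ne_top_iff_exists.1 ha
        rw [← hi, nsmul_eq_mul] at hAB
        norm_cast at hAB
        rcases h2 with h2 | h0
        · exact h2 (hAB ▸ dvd_mul_right p i)
        · exact ha (order_eq_top.2 h0)
    · change min A.order B.order = _ at hAB
      rw [h1, hBo] at hAB
      rcases eq_or_ne b.order ⊤ with hb | hb
      · rw [hb] at hAB
        simp [NeZero.ne p] at hAB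
        exact WithTop.top_ne_natCast (2 * m) (by exact_mod_cast hAB)
      · obtain ⟨i, hi⟩ := ENat.ne_top_iff_exists.1 hb
        rw [← hi, nsmul_eq_mul] at hAB
        norm_cast at hAB
        exact hm ⟨i, by omega⟩

end Groth.Agent.Crimp5
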